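import Mathlib

/-!
Normalisers of the Sylow subgroups of order 17 and 19 in a simple group of order 50232960 with no element of
order 16 and no involution centralising an element of these orders.
-/

set_option autoImplicit false
set_option linter.unusedSectionVars false
set_option linter.style.haveILetI false

namespace Cfsg.Lib.J3Sylow

open Subgroup

/-- The possible parameters at the prime seventeen. -/
theorem arith17 : ∀ a ∈ Nat.divisors 243, ∀ b ∈ Nat.divisors 5, ∀ d ∈ Nat.divisors 19, ∀ e ∈ Nat.divisors 16,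
    e ≠ 1 → a * b * d * e % 17 = 8 →
    (e = 8 ∧ a * b * d = 1) ∨ e = 16 ∨ (4 ∣ e ∧ a * b * d ∈ [19, 171]) := by decide +kernel

/-- The possible parameters at the prime nineteen. -/
theorem arith19 : ∀ a ∈ Nat.divisors 243, ∀ b ∈ Nat.divisors 5, ∀ d ∈ Nat.divisors 17, ∀ e ∈ Nat.divisors 18,
    9 ∣ e → a * b * d * e % 19 = 9 → (e = 9 ∧ a * b * d = 1) ∨ d = 17 := by decide +kernel

theorem sq_eq_one_of_pow_four : ∀ r : ZMod 19, r ^ 4 = 1 → r ^ 2 = 1 := by decide +kernel

theorem divisors_split {c q : ℕ} (h : c ∣ 243 * 5 * q) (hq : q ≠ 0) :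
    ∃ a ∈ Nat.divisors 243, ∃ b ∈ Nat.divisors 5, ∃ d ∈ Nat.divisors q, c = a * b * d := by
  obtain ⟨ab, d, hab, hd, rfl⟩ := Nat.dvd_mul.1 h
  obtain ⟨a, b, ha, hb, rfl⟩ := Nat.dvd_mul.1 hab
  exact ⟨a, Nat.mem_divisors.2 ⟨ha, by norm_num⟩, b, Nat.mem_divisors.2 ⟨hb, by norm_num⟩, d,
    Nat.mem_divisors.2 ⟨hd, hq⟩, rfl⟩

variable {G : Type*} [Group G] [Finite G]

/-- The hypotheses on the group. -/
structure Hyp (G : Type*) [Group G] : Prop where
  simple : IsSimpleGroup G
  card : Nat.card G = 50232960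
  no16 : ∀ g : G, orderOf g ≠ 16
  noInvol : ∀ x w : G, orderOf w = 2 → Commute x w → orderOf x = 17 ∨ orderOf x = 19 → False

variable {p : ℕ} [Fact p.Prime] (X : Sylow p G)

theorem sylow_card (H : Hyp G) {m : ℕ} (hm : 50232960 = p * m) (hpm : ¬ p ∣ m) : Nat.card X = p := by
  rw [X.card_eq_multiplicity, H.card, hm,
    Nat.factorization_mul (Fact.out : p.Prime).ne_zero (by rintro rfl; simp at hpm), Finsupp.add_apply,
    Nat.Prime.factorization_self Fact.out, Nat.factorization_eq_zero_of_not_dvd hpm, pow_one]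

/-- The action of the normaliser. -/
noncomputable def act : ↥(normalizer ((X : Subgroup G) : Set G)) →* MulAut (X : Subgroup G) :=
  Subgroup.normalizerMonoidHom (X : Subgroup G)

theorem act_ker : (act X).ker = (centralizer ((X : Subgroup G) : Set G)).subgroupOf _ :=
  Subgroup.normalizerMonoidHom_ker _

theorem card_range_dvd (hX : Nat.card X = p) : Nat.card (act X).range ∣ p - 1 ∧ IsCyclic (act X).range := by
  haveI : IsCyclic (X : Subgroup G) := isCyclic_of_prime_card hX
  have h := Subgroup.card_subgroup_dvd_card (act X).range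
  rw [IsCyclic.card_mulAut, hX, Nat.totient_prime Fact.out] at h
  refine ⟨h, ?_⟩
  haveI : Fact (Nat.card (X : Subgroup G)).Prime := ⟨hX.symm ▸ Fact.out⟩
  exact isCyclic_of_injective
    ((IsCyclic.mulAutMulEquiv (X : Subgroup G)).toMonoidHom.comp (act X).range.subtype)
    ((IsCyclic.mulAutMulEquiv (X : Subgroup G)).injective.comp Subtype.val_injective)

theorem range_ne_one (H : Hyp G) (hX : Nat.card X = p) (hp : p ≠ 50232960) : Nat.card (act X).range ≠ 1 := by
  intro h1
  have hN : normalizer ((X : Subgroup G) : Set G) ≤ centralizer ((X : Subgroup G) : Set G) := by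
    intro n hn
    have : (⟨n, hn⟩ : ↥(normalizer ((X : Subgroup G) : Set G))) ∈ (act X).ker := by
      rw [MonoidHom.range_eq_bot_iff.mp (Subgroup.card_eq_one.1 h1) |> fun e => (MonoidHom.ker_eq_top_iff).2 e]
      exact mem_top _
    rwa [act_ker, Subgroup.mem_subgroupOf] at this
  haveI := H.simple
  have hc := MonoidHom.ker_transferSylow_isComplement' X hN
  rcases (MonoidHom.normal_ker (MonoidHom.transferSylow X hN)).eq_bot_or_eq_top with h | h
  · have h2 := hc.card_mul
    rw [h, Subgroup.card_bot, one_mul, hX, H.card] at h2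
    exact hp h2
  · have h2 := hc.card_mul
    rw [h, Subgroup.card_top, hX, H.card] at h2
    have := (Fact.out : p.Prime).two_le
    nlinarith

/-- Orders: the centralizer has order `p * c` and `c * e` is congruent to the cofactor. -/
theorem params (H : Hyp G) (hp : p = 17 ∨ p = 19) (hX : Nat.card X = p) {m : ℕ}
    (hm : 50232960 = p * (2 ^ 7 * m)) :
    ∃ c, Nat.card (centralizer ((X : Subgroup G) : Set G)) = p * c ∧ c ∣ m ∧
      (c * Nat.card (act X).range) % p = (2 ^ 7 * m) % p := by
  set C := centralizer ((X : Subgroup G) : Set G) with hC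
  haveI : IsCyclic (X : Subgroup G) := isCyclic_of_prime_card hX
  have hXC : (X : Subgroup G) ≤ C := fun a ha => mem_centralizer_iff.2 fun b hb => by
    obtain ⟨g, hg⟩ := IsCyclic.exists_generator (α := (X : Subgroup G))
    obtain ⟨i, hi⟩ := Subgroup.mem_zpowers_iff.1 (hg ⟨a, ha⟩)
    obtain ⟨j, hj⟩ := Subgroup.mem_zpowers_iff.1 (hg ⟨b, hb⟩)
    have hij : (⟨b, hb⟩ : (X : Subgroup G)) * ⟨a, ha⟩ = ⟨a, ha⟩ * ⟨b, hb⟩ := by
      rw [← hi, ← hj, ← zpow_add, ← zpow_add, add_comm]
    exact congrArg Subtype.val hij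
  obtain ⟨c, hc⟩ := Subgroup.card_dvd_of_le hXC
  rw [hX] at hc
  have hCN : C ≤ normalizer ((X : Subgroup G) : Set G) := by
    intro n hn
    rw [Subgroup.mem_set_normalizer_iff]
    intro v
    constructor
    · intro hv
      rw [show n * v * n⁻¹ = v by rw [← mem_centralizer_iff.1 hn v hv]; group]
      exact hv
    · intro hv
      have h := mem_centralizer_iff.1 hn _ hv
      have : v = n * v * n⁻¹ := by
        calc v = n⁻¹ * ((n * v * n⁻¹) * n) := by group
          _ = n⁻¹ * (n * (n * v * n⁻¹)) := by rw [h]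
          _ = n * v * n⁻¹ := by group
      rw [this]; exact hv
  have hN : Nat.card ↥(normalizer ((X : Subgroup G) : Set G)) = p * c * Nat.card (act X).range := by
    rw [Subgroup.card_eq_card_quotient_mul_card_subgroup (act X).ker,
      Nat.card_congr (QuotientGroup.quotientKerEquivRange (act X)).toEquiv, act_ker,
      Nat.card_congr (Subgroup.subgroupOfEquivOfLe hCN).toEquiv, hc, mul_comm]
  have hidx := Subgroup.index_mul_card (normalizer ((X : Subgroup G) : Set G))
  rw [hN, H.card, hm, show (normalizer ((X : Subgroup G) : Set G)).index = Nat.card (Sylow p G) from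
    X.card_eq_index_normalizer.symm] at hidx
  have hn := card_sylow_modEq_one p G
  have hprod : Nat.card (Sylow p G) * (c * Nat.card (act X).range) = 2 ^ 7 * m := by
    refine Nat.eq_of_mul_eq_mul_left (Fact.out : p.Prime).pos ?_
    rw [← hidx]; ring
  refine ⟨c, hc, ?_, ?_⟩
  · refine Nat.Coprime.dvd_of_dvd_mul_left ?_ (⟨Nat.card (Sylow p G) * Nat.card (act X).range, by rw [← hprod]; ring⟩ : c ∣ 2 ^ 7 * m)
    refine Nat.Coprime.pow_right 7 ((Nat.Prime.coprime_iff_not_dvd Nat.prime_two).2 ?_).symm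
    intro h2
    obtain ⟨w, hw⟩ := exists_prime_orderOf_dvd_card' (G := C) 2 (hc ▸ dvd_mul_of_dvd_right h2 p)
    obtain ⟨x, hx⟩ := exists_prime_orderOf_dvd_card' (G := (X : Subgroup G)) p (by rw [hX])
    refine H.noInvol x w (by rw [Subgroup.orderOf_coe, hw]) (mem_centralizer_iff.1 w.2 x x.2) ?_
    rw [Subgroup.orderOf_coe, hx]; exact hp
  · have h := (Nat.ModEq.mul_right (c * Nat.card (act X).range) hn)
    rw [one_mul, hprod] at h
    exact h.symm

/-- If the centralizer is the subgroup itself, the quotient of the normaliser is cyclic of the order of the range. -/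
theorem quot_of_self (hX : Nat.card X = p) (hC : centralizer ((X : Subgroup G) : Set G) = X) :
    ∃ h : ((X : Subgroup G).subgroupOf (normalizer ((X : Subgroup G) : Set G))).Normal,
      IsCyclic (↥(normalizer ((X : Subgroup G) : Set G)) ⧸ (X : Subgroup G).subgroupOf _) ∧
      Nat.card (↥(normalizer ((X : Subgroup G) : Set G)) ⧸ (X : Subgroup G).subgroupOf _) =
        Nat.card (act X).range := by
  have hk : (X : Subgroup G).subgroupOf (normalizer ((X : Subgroup G) : Set G)) = (act X).ker := by
    rw [act_ker, hC]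
  haveI hn : ((X : Subgroup G).subgroupOf (normalizer ((X : Subgroup G) : Set G))).Normal := hk ▸ MonoidHom.normal_ker _
  refine ⟨hn, ?_⟩
  have e := (QuotientGroup.quotientMulEquivOfEq hk).trans (QuotientGroup.quotientKerEquivRange (act X))
  haveI := (card_range_dvd X hX).2
  exact ⟨isCyclic_of_surjective e.symm.toMonoidHom e.symm.surjective, Nat.card_congr e.toEquiv⟩

theorem eq_of_card_centralizer (hX : Nat.card X = p) (hc : Nat.card (centralizer ((X : Subgroup G) : Set G)) = p * 1) :
    centralizer ((X : Subgroup G) : Set G) = X := by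
  haveI : IsCyclic (X : Subgroup G) := isCyclic_of_prime_card hX
  refine (Subgroup.eq_of_le_of_card_ge (fun a ha => mem_centralizer_iff.2 fun b hb => ?_) (by rw [hc, hX, mul_one])).symm
  letI := IsCyclic.commGroup (α := (X : Subgroup G))
  exact congrArg Subtype.val (mul_comm (⟨b, hb⟩ : (X : Subgroup G)) ⟨a, ha⟩)

theorem seventeen (H : Hyp G) (X : Sylow 17 G) [Fact (Nat.Prime 17)] :
    centralizer ((X : Subgroup G) : Set G) = X ∧ Nat.card (act X).range = 8 := by
  have hX : Nat.card X = 17 := sylow_card X H (m := 2954880) (by norm_num) (by norm_num)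
  obtain ⟨c, hc, hcm, hmod⟩ := params X H (Or.inl rfl) hX (m := 23085) (by norm_num)
  obtain ⟨hed, hcyc⟩ := card_range_dvd X hX
  obtain ⟨a, ha, b, hb, d, hd, rfl⟩ := divisors_split (q := 19) hcm (by norm_num)
  rcases arith17 a ha b hb d hd _ (Nat.mem_divisors.2 ⟨hed, by norm_num⟩) (range_ne_one X H hX (by norm_num))
    hmod with ⟨he, habd⟩ | he | ⟨h4, habd⟩
  · exact ⟨eq_of_card_centralizer X hX (habd ▸ hc), he⟩
  · exfalso
    haveI := hcyc
    obtain ⟨g, hg⟩ := IsCyclic.exists_ofOrder_eq_natCard (α := (act X).range)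
    obtain ⟨⟨y, hy⟩, hyg⟩ := (act X).rangeRestrict_surjective g
    have h16 : 16 ∣ orderOf y := by
      rw [← he, ← hg, ← hyg, ← Subgroup.orderOf_mk y hy]
      exact orderOf_map_dvd _ _
    exact H.no16 _ (orderOf_pow_orderOf_div (orderOf_pos y).ne' h16)
  · exfalso
    set C := centralizer ((X : Subgroup G) : Set G) with hC
    haveI : Fact (Nat.Prime 19) := ⟨by norm_num⟩
    obtain ⟨Z⟩ : Nonempty (Sylow 19 C) := inferInstance
    simp only [List.mem_cons, List.not_mem_nil, or_false] at habd
    have hc19 : 19 ∣ Nat.card C := by rw [hc]; rcases habd with h | h <;> rw [h] <;> norm_num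
    have hdG : Nat.card C ∣ Nat.card G := Subgroup.card_subgroup_dvd_card _
    have hZ : Nat.card Z = 19 := by
      rw [Z.card_eq_multiplicity, hc]
      rcases habd with h | h <;> rw [h]
      · rw [Nat.factorization_mul (by norm_num) (by norm_num), Finsupp.add_apply,
          Nat.Prime.factorization_self (by norm_num), Nat.factorization_eq_zero_of_not_dvd (by norm_num)]
        norm_num
      · rw [show 17 * 171 = 153 * 19 by norm_num, Nat.factorization_mul (by norm_num) (by norm_num), Finsupp.add_apply,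
          Nat.Prime.factorization_self (by norm_num), Nat.factorization_eq_zero_of_not_dvd (by norm_num)]
        norm_num
    -- the Sylow subgroup is unique
    have huniq : Nat.card (Sylow 19 C) = 1 := by
      have hn := card_sylow_modEq_one 19 C
      have hi := Subgroup.index_mul_card (normalizer ((Z : Subgroup C) : Set C))
      rw [show (normalizer ((Z : Subgroup C) : Set C)).index = Nat.card (Sylow 19 C) from
        Z.card_eq_index_normalizer.symm, hc] at hi
      obtain ⟨x, hx⟩ := exists_prime_orderOf_dvd_card' (G := (X : Subgroup G)) 17 (by rw [hX])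
      have hxC : (x : G) ∈ C := by
        haveI : IsCyclic (X : Subgroup G) := isCyclic_of_prime_card hX
        letI := IsCyclic.commGroup (α := (X : Subgroup G))
        exact mem_centralizer_iff.2 fun b hb => congrArg Subtype.val (mul_comm (⟨b, hb⟩ : (X : Subgroup G)) x)
      have hxN : (⟨x, hxC⟩ : C) ∈ normalizer ((Z : Subgroup C) : Set C) := by
        rw [Subgroup.mem_set_normalizer_iff]
        intro v
        rw [show (⟨x, hxC⟩ : C) * v * (⟨x, hxC⟩ : C)⁻¹ = v from Subtype.ext (by
          show (x : G) * v * (x : G)⁻¹ = v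
          rw [mem_centralizer_iff.1 v.2 x x.2]; group)]
      have h17 : 17 ∣ Nat.card (normalizer ((Z : Subgroup C) : Set C)) := by
        have := Subgroup.orderOf_dvd_natCard _ hxN
        rwa [← Subgroup.orderOf_coe, show orderOf (((⟨x, hxC⟩ : C)) : G) = 17 by
          show orderOf (x : G) = 17; rw [Subgroup.orderOf_coe, hx]] at this
      have h19 : 19 ∣ Nat.card (normalizer ((Z : Subgroup C) : Set C)) := by
        exact hZ.symm.dvd.trans (Subgroup.card_dvd_of_le (Subgroup.le_normalizer (H := (Z : Subgroup C))))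
      have h323 : 17 * 19 ∣ Nat.card (normalizer ((Z : Subgroup C) : Set C)) :=
        Nat.Coprime.mul_dvd_of_dvd_of_dvd (by norm_num) h17 h19
      obtain ⟨k, hk⟩ := h323
      rw [hk] at hi
      have hn9 : Nat.card (Sylow 19 C) ∣ 9 := by
        rcases habd with h | h <;> rw [h] at hi
        · exact Dvd.dvd.trans (Dvd.intro k (by nlinarith : Nat.card (Sylow 19 C) * k = 1)) (one_dvd _)
        · exact Dvd.intro k (by nlinarith : Nat.card (Sylow 19 C) * k = 9)
      have hle := Nat.le_of_dvd (by norm_num) hn9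
      have := hn
      unfold Nat.ModEq at this
      omega
    haveI : Subsingleton (Sylow 19 C) := (Nat.card_eq_one_iff_unique.1 huniq).1
    obtain ⟨z, hz⟩ := exists_prime_orderOf_dvd_card' (G := C) 19 hc19
    have hall : ∀ v : C, v ^ 19 = 1 → v ∈ (Z : Subgroup C) := fun v hv => by
      have hp : IsPGroup 19 (Subgroup.zpowers v) := by
        intro w
        refine ⟨1, Subtype.ext ?_⟩
        obtain ⟨i, hi⟩ := Subgroup.mem_zpowers_iff.1 w.2
        rw [SubgroupClass.coe_pow, pow_one, OneMemClass.coe_one, ← hi, ← zpow_natCast, ← zpow_mul, mul_comm,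
          zpow_mul, zpow_natCast, hv, one_zpow]
      obtain ⟨Q, hQ⟩ := hp.exists_le_sylow
      rw [Subsingleton.elim Q Z] at hQ
      exact hQ (Subgroup.mem_zpowers v)
    have hzpow : (Z : Subgroup C) = Subgroup.zpowers z := by
      refine (Subgroup.eq_of_le_of_card_ge (Subgroup.zpowers_le.2 (hall z (hz ▸ pow_orderOf_eq_one z))) ?_).symm
      rw [Nat.card_zpowers, hz, hZ]
    -- an element of order four of the normaliser
    haveI := hcyc
    obtain ⟨g, hg⟩ := IsCyclic.exists_ofOrder_eq_natCard (α := (act X).range)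
    obtain ⟨⟨y, hy⟩, hyg⟩ := (act X).rangeRestrict_surjective g
    have h4y : 4 ∣ orderOf y := by
      refine h4.trans ?_
      rw [← hg, ← hyg, ← Subgroup.orderOf_mk y hy]
      exact orderOf_map_dvd _ _
    set w := y ^ (orderOf y / 4) with hw
    have hw4 : orderOf w = 4 := orderOf_pow_orderOf_div (orderOf_pos y).ne' h4y
    have hwN : w ∈ normalizer ((X : Subgroup G) : Set G) := pow_mem hy _
    have hconjC : ∀ v ∈ C, w * v * w⁻¹ ∈ C := fun v hv => mem_centralizer_iff.2 fun b hb => by
      have hb' : w⁻¹ * b * w ∈ (X : Subgroup G) := by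
        have := (Subgroup.mem_set_normalizer_iff.1 hwN (w⁻¹ * b * w)).2
        refine this ?_
        have e : w * (w⁻¹ * b * w) * w⁻¹ = b := by group
        rw [e]; exact hb
      have h := mem_centralizer_iff.1 hv _ hb'
      calc b * (w * v * w⁻¹) = w * ((w⁻¹ * b * w) * v) * w⁻¹ := by group
        _ = w * (v * (w⁻¹ * b * w)) * w⁻¹ := by rw [h]
        _ = w * v * w⁻¹ * b := by group
    have hzG : ((z : G)) ^ 19 = 1 := by
      rw [← hz, ← Subgroup.orderOf_coe]; exact pow_orderOf_eq_one _
    obtain ⟨k, hk⟩ := Subgroup.mem_zpowers_iff.1 (hzpow ▸ hall ⟨_, hconjC z z.2⟩ (Subtype.ext (by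
      rw [SubgroupClass.coe_pow]
      show (w * (z : G) * w⁻¹) ^ 19 = 1
      rw [conj_pow, hzG, mul_one, mul_inv_cancel])))
    have hk1 : w * (z : G) * w⁻¹ = (z : G) ^ k := by
      have := congrArg Subtype.val hk
      rw [SubgroupClass.coe_zpow] at this
      exact this.symm
    have hpw : ∀ i : ℕ, w ^ i * (z : G) * (w ^ i)⁻¹ = (z : G) ^ (k ^ i) := by
      intro i
      induction i with
      | zero => simp
      | succ i ih =>
        rw [pow_succ', show w * w ^ i * (z : G) * (w * w ^ i)⁻¹ = w * (w ^ i * (z : G) * (w ^ i)⁻¹) * w⁻¹ by group,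
          ih, ← conj_zpow, hk1, ← zpow_mul, pow_succ']
    have hw44 : w ^ 4 = 1 := hw4 ▸ pow_orderOf_eq_one w
    have h4 : (19 : ℤ) ∣ k ^ 4 - 1 := by
      have h := hpw 4
      rw [hw44, one_mul, inv_one, mul_one] at h
      have h1 : (z : G) ^ (k ^ 4 - 1) = 1 := by rw [zpow_sub, ← h, zpow_one, mul_inv_cancel]
      have h2 := orderOf_dvd_iff_zpow_eq_one.2 h1
      rwa [Subgroup.orderOf_coe, hz] at h2
    have hk2 : (19 : ℤ) ∣ k ^ 2 - 1 := by
      have h := (ZMod.intCast_zmod_eq_zero_iff_dvd _ 19).2 h4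
      push_cast at h
      refine (ZMod.intCast_zmod_eq_zero_iff_dvd _ 19).1 ?_
      push_cast
      rw [sq_eq_one_of_pow_four _ (sub_eq_zero.1 h), sub_self]
    have hcomm : Commute (z : G) (w ^ 2) := by
      have h := hpw 2
      obtain ⟨j, hj⟩ := hk2
      rw [show k ^ 2 = 1 + (19 : ℤ) * j by linarith, zpow_add, zpow_one, zpow_mul, show ((19 : ℤ)) = ((19 : ℕ) : ℤ) from rfl,
        zpow_natCast, hzG, one_zpow, mul_one] at h
      exact (mul_inv_eq_iff_eq_mul.1 h).symm
    exact H.noInvol _ _ (by rw [orderOf_pow, hw4]; norm_num) hcomm (Or.inr (by rw [Subgroup.orderOf_coe, hz]))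

theorem nineteen (H : Hyp G) (hwit : ∃ x y : G, orderOf x = 19 ∧ y * x * y⁻¹ = x ^ 16) (X : Sylow 19 G)
    [Fact (Nat.Prime 19)] [Fact (Nat.Prime 17)] :
    centralizer ((X : Subgroup G) : Set G) = X ∧ Nat.card (act X).range = 9 := by
  have hX : Nat.card X = 19 := sylow_card X H (m := 2643840) (by norm_num) (by norm_num)
  obtain ⟨c, hc, hcm, hmod⟩ := params X H (Or.inr rfl) hX (m := 20655) (by norm_num)
  obtain ⟨hed, -⟩ := card_range_dvd X hX
  obtain ⟨a, ha, b, hb, d, hd, rfl⟩ := divisors_split (q := 17) hcm (by norm_num)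
  -- the witness
  have h9 : 9 ∣ Nat.card (act X).range := by
    obtain ⟨x₀, y₀, hx₀, hy₀⟩ := hwit
    have hp : IsPGroup 19 (Subgroup.zpowers x₀) :=
      IsPGroup.of_card (n := 1) (by rw [Nat.card_zpowers, hx₀, pow_one])
    obtain ⟨Q, hQ⟩ := hp.exists_le_sylow
    obtain ⟨g, hg⟩ := MulAction.exists_smul_eq G Q X
    set x := MulAut.conj g x₀ with hx
    set y := MulAut.conj g y₀ with hy
    have hx19 : orderOf x = 19 := by rw [hx, MulEquiv.orderOf_eq, hx₀]
    have hxy : y * x * y⁻¹ = x ^ 16 := by rw [hx, hy, ← map_inv, ← map_mul, ← map_mul, hy₀, map_pow]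
    have hxX : x ∈ (X : Subgroup G) := by
      rw [← hg, Sylow.coe_subgroup_smul]
      exact Subgroup.smul_mem_pointwise_smul x₀ (MulAut.conj g) _ (hQ (Subgroup.mem_zpowers x₀))
    have hXz : (X : Subgroup G) = Subgroup.zpowers x :=
      (Subgroup.eq_of_le_of_card_ge (Subgroup.zpowers_le.2 hxX) (by rw [Nat.card_zpowers, hx19, hX])).symm
    have hyN : y ∈ normalizer ((X : Subgroup G) : Set G) := by
      have hmap : (X : Subgroup G).map (MulAut.conj y).toMonoidHom = X := by
        refine Subgroup.eq_of_le_of_card_ge ?_ (le_of_eq ?_)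
        · rw [hXz, MonoidHom.map_zpowers, Subgroup.zpowers_le]
          show y * x * y⁻¹ ∈ _
          rw [hxy]; exact Subgroup.npow_mem_zpowers x 16
        · exact Nat.card_congr ((X : Subgroup G).equivMapOfInjective _ (MulAut.conj y).injective).toEquiv
      rw [Subgroup.mem_set_normalizer_iff]
      intro v
      constructor
      · intro hv
        have := mem_map_of_mem (MulAut.conj y).toMonoidHom hv
        rwa [hmap] at this
      · intro hv
        rw [SetLike.mem_coe, ← hmap] at hv
        obtain ⟨u, hu, hue⟩ := Subgroup.mem_map.1 hv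
        change y * u * y⁻¹ = y * v * y⁻¹ at hue
        exact (mul_left_cancel (mul_right_cancel hue)) ▸ hu
    set n : ↥(normalizer ((X : Subgroup G) : Set G)) := ⟨y, hyN⟩ with hn
    have happ : ∀ i : ℕ, y ^ i * x * (y ^ i)⁻¹ = x ^ (16 ^ i) := by
      intro i
      induction i with
      | zero => simp
      | succ i ih =>
        rw [pow_succ', show y * y ^ i * x * (y * y ^ i)⁻¹ = y * (y ^ i * x * (y ^ i)⁻¹) * y⁻¹ by group,
          ih, ← conj_pow, hxy, ← pow_mul, pow_succ']
    have hcoe : ∀ (i : ℕ) (v : (X : Subgroup G)), (((act X n) ^ i) v : G) = y ^ i * v * (y ^ i)⁻¹ := by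
      intro i v
      rw [← map_pow]
      rfl
    have h9o : orderOf (act X n) = 9 := by
      refine orderOf_eq_prime_pow (p := 3) (n := 1) ?_ ?_ |>.trans (by norm_num)
      · intro h3
        have h := hcoe (3 ^ 1) ⟨x, hxX⟩
        rw [h3] at h
        simp only [MulAut.one_apply] at h
        rw [happ] at h
        have h' : x ^ 1 = x ^ (16 ^ 3 ^ 1) := by rw [pow_one]; exact h
        rw [pow_eq_pow_iff_modEq, hx19] at h'
        revert h'; decide
      · refine MulEquiv.ext fun v => Subtype.ext ?_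
        obtain ⟨i, hi⟩ := Subgroup.mem_zpowers_iff.1 (hXz ▸ v.2 : (v : G) ∈ Subgroup.zpowers x)
        rw [hcoe, MulAut.one_apply, ← hi, ← conj_zpow, happ]
        congr 1
        conv_rhs => rw [← pow_one x]
        rw [pow_eq_pow_iff_modEq, hx19]
        decide
    rw [← h9o]
    exact Subgroup.orderOf_dvd_natCard _ ⟨n, rfl⟩
  rcases arith19 a ha b hb d hd _ (Nat.mem_divisors.2 ⟨hed, by norm_num⟩) h9 hmod with ⟨he, habd⟩ | hd17
  · exact ⟨eq_of_card_centralizer X hX (habd ▸ hc), he⟩
  · exfalso
    set C := centralizer ((X : Subgroup G) : Set G) with hC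
    obtain ⟨q, hq⟩ := exists_prime_orderOf_dvd_card' (G := C) 17
      (by rw [hc, hd17]; exact dvd_mul_of_dvd_right (dvd_mul_left 17 _) 19)
    have hp : IsPGroup 17 (Subgroup.zpowers (q : G)) :=
      IsPGroup.of_card (n := 1) (by rw [Nat.card_zpowers, Subgroup.orderOf_coe, hq, pow_one])
    obtain ⟨Y, hY⟩ := hp.exists_le_sylow
    have hY17 : Nat.card Y = 17 := sylow_card Y H (m := 2954880) (by norm_num) (by norm_num)
    have hYz : (Y : Subgroup G) = Subgroup.zpowers (q : G) :=
      (Subgroup.eq_of_le_of_card_ge hY (by rw [Nat.card_zpowers, Subgroup.orderOf_coe, hq, hY17])).symm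
    have hXY : (X : Subgroup G) ≤ centralizer ((Y : Subgroup G) : Set G) := fun v hv =>
      mem_centralizer_iff.2 fun b hb => by
        rw [hYz, SetLike.mem_coe, Subgroup.mem_zpowers_iff] at hb
        obtain ⟨i, rfl⟩ := hb
        exact (Commute.zpow_left (show Commute (q : G) v from (mem_centralizer_iff.1 q.2 v hv).symm) i).eq
    have h := Subgroup.card_dvd_of_le hXY
    rw [(seventeen H Y).1, hX, hY17] at h
    norm_num at h

end Cfsg.Lib.J3Sylow
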