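import Cfsg.Agent.Spor.J3.Simple

/-!
An element normalising the element of order nineteen in the model of the third Janko group.
-/

set_option autoImplicit false

namespace Cfsg.Lib.J3Sylow

open Cfsg.Lib.Spor.J3

/-- A word conjugating the element of order nineteen to its sixteenth power. -/
def normWord : List ℕ := [24, 24, 7, 3, 32, 15, 14, 24, 19, 14, 32, 26]

theorem norm_ok : eqw (normWord ++ xWord) ((List.replicate 16 xWord).flatten ++ normWord) = true := by
  decide +kernel

theorem normWord_ok : lettersOK normWord = true := by decide +kernel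

variable {G : Type*} [Group G] [Finite G]

/-- In a group of third Janko type some element of order nineteen is conjugate to its sixteenth power. -/
theorem exists_conj_pow_sixteen (h : Cfsg.Spor.IsoJ3 G) :
    ∃ x y : G, orderOf x = 19 ∧ y * x * y⁻¹ = x ^ 16 := by
  obtain ⟨F, _, _, ω, hF, hω, ⟨e⟩⟩ := h
  haveI : CharP F 2 := charP_two_of_card_four hF
  let π := QuotientGroup.mk' (Subgroup.center (Cfsg.Spor.threeJ3 F ω))
  let w : Cfsg.Spor.threeJ3 F ω := ⟨wd hω normWord, wd_mem hω normWord_ok⟩
  haveI : Fact (Nat.Prime 19) := ⟨by norm_num⟩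
  have h19 : orderOf (π (xElt hω)) = 19 := by
    refine orderOf_eq_prime (by rw [← map_pow, ← orderOf_xElt hω, pow_orderOf_eq_one, map_one]) fun he => ?_
    have hc : xElt hω ∈ Subgroup.center (Cfsg.Spor.threeJ3 F ω) := (QuotientGroup.eq_one_iff _).1 he
    have h2 := orderOf_dvd_natCard (⟨xElt hω, hc⟩ : Subgroup.center (Cfsg.Spor.threeJ3 F ω))
    rw [card_center hω hF, Subgroup.orderOf_mk, orderOf_xElt hω] at h2
    norm_num at h2
  have hrel : w * xElt hω = xElt hω ^ 16 * w := by
    apply Subtype.ext
    show wd hω normWord * wd hω xWord = (((xElt hω) ^ 16 : Cfsg.Spor.threeJ3 F ω) : _) * wd hω normWord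
    rw [SubgroupClass.coe_pow]
    show wd hω normWord * wd hω xWord = wd hω xWord ^ 16 * wd hω normWord
    rw [← wd_flatten_replicate, ← wd_append, ← wd_append, eqw_sound hω norm_ok]
  refine ⟨e.symm (π (xElt hω)), e.symm (π w), by rw [MulEquiv.orderOf_eq, h19], ?_⟩
  rw [← map_inv, ← map_mul, ← map_mul, ← map_pow, ← map_inv π, ← map_mul π, ← map_mul π, ← map_pow π, hrel,
    mul_inv_cancel_right]

end Cfsg.Lib.J3Sylow
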