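import Mathlib
import Cfsg.Prelude.Def_Transfer
import Cfsg.Agent.Transfer.Fusion
import Cfsg.Agent.PGroups.Basic

/-!
A simple group with one class of involutions and involution centralizer a split extension of an extraspecial
group of order 32 by the alternating group of degree five: the centralizer is faithful and there is no element of order 16.
-/

set_option autoImplicit false
set_option linter.unusedSectionVars false
set_option linter.style.haveILetI false

namespace Cfsg.Lib.J3Sylow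

open Subgroup

universe u

theorem altFive_sixteen : ∀ x : alternatingGroup (Fin 5), x ^ 16 = 1 → x ^ 2 = 1 := by decide +kernel

theorem card_altFive : Nat.card (alternatingGroup (Fin 5)) = 60 := by
  rw [nat_card_alternatingGroup]; simp [Nat.factorial]

theorem altFive_noncomm : ∃ x y : alternatingGroup (Fin 5), x * y ≠ y * x := by decide +kernel

/-- A homomorphism from the alternating group of degree five with commuting values is trivial. -/
theorem altFive_hom_trivial {M : Type*} [Group M] (f : alternatingGroup (Fin 5) →* M)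
    (hf : ∀ x y, Commute (f x) (f y)) (x : alternatingGroup (Fin 5)) : f x = 1 := by
  haveI : IsSimpleGroup (alternatingGroup (Fin 5)) := alternatingGroup.isSimpleGroup_five
  rcases (inferInstance : f.ker.Normal).eq_bot_or_eq_top with h | h
  · obtain ⟨a, b, hab⟩ := altFive_noncomm
    exact absurd ((f.ker_eq_bot_iff).1 h (by rw [map_mul, map_mul, (hf a b).eq])) hab
  · exact MonoidHom.mem_ker.1 (h ▸ mem_top x)

variable {G : Type u} [Group G]

/-- The square of an element of an extraspecial group of exponent two is central. -/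
theorem pow_four_eq_one {P : Type*} [Group P] [Finite P] (hP : Cfsg.IsExtraspecial 2 P) (x : P) : x ^ 4 = 1 := by
  haveI : Fact (Nat.Prime 2) := ⟨Nat.prime_two⟩
  have h : x ^ 2 ∈ center P := hP.1.2.1 ▸ Cfsg.Lib.PGroups.pow_mem_frattini hP.1.1 x
  have h2 := pow_card_eq_one' (x := (⟨x ^ 2, h⟩ : center P))
  rw [hP.2, Subtype.ext_iff, SubgroupClass.coe_pow, ← pow_mul] at h2
  simpa using h2

variable (t : G) (E A : Subgroup ↥(centralizer ({t} : Set G)))

/-- The quotient is the alternating group of degree five. -/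
theorem exists_quot_equiv [E.Normal] (hEA : E.IsComplement' A) (eA : A ≃* alternatingGroup (Fin 5)) :
    ∃ e : (↥(centralizer ({t} : Set G)) ⧸ E) ≃* alternatingGroup (Fin 5), ∀ a : A, e (a.1 : _ ⧸ E) = eA a := by
  let φ : A →* (↥(centralizer ({t} : Set G)) ⧸ E) := (QuotientGroup.mk' E).comp A.subtype
  have hφ : Function.Bijective φ := by
    refine ⟨(injective_iff_map_eq_one φ).2 fun a ha => ?_, fun q => ?_⟩
    · exact Subtype.ext ((Subgroup.disjoint_def.1 hEA.disjoint) ((QuotientGroup.eq_one_iff _).1 ha) a.2)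
    · obtain ⟨c, rfl⟩ := QuotientGroup.mk'_surjective E q
      obtain ⟨x, hx, a, ha, rfl⟩ := Subgroup.mem_sup_of_normal_left.1
        (hEA.sup_eq_top ▸ mem_top c : c ∈ E ⊔ A)
      exact ⟨⟨a, ha⟩, by
        show QuotientGroup.mk' E a = _
        rw [map_mul, QuotientGroup.mk'_apply, QuotientGroup.mk'_apply, (QuotientGroup.eq_one_iff x).2 hx, one_mul]⟩
  refine ⟨(MulEquiv.ofBijective φ hφ).symm.trans eA, fun a => ?_⟩
  show eA ((MulEquiv.ofBijective φ hφ).symm (φ a)) = eA a
  exact congrArg eA ((MulEquiv.ofBijective φ hφ).symm_apply_apply a)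

variable [Finite G]

theorem mem_E [E.Normal] (e : (↥(centralizer ({t} : Set G)) ⧸ E) ≃* alternatingGroup (Fin 5)) :
    (⟨t, mem_centralizer_singleton_iff.2 rfl⟩ : ↥(centralizer ({t} : Set G))) ∈ E := by
  rw [← QuotientGroup.eq_one_iff, ← MulEquiv.map_eq_one_iff e]
  have key : ∀ x : alternatingGroup (Fin 5), (∀ y, x * y = y * x) → x = 1 := by decide +kernel
  refine key _ fun y => ?_
  obtain ⟨q, rfl⟩ := e.surjective y
  obtain ⟨c, rfl⟩ := QuotientGroup.mk'_surjective E q
  rw [QuotientGroup.mk'_apply, ← map_mul, ← map_mul, ← QuotientGroup.mk_mul, ← QuotientGroup.mk_mul]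
  congr 2
  exact Subtype.ext (mem_centralizer_singleton_iff.1 c.2).symm

variable {t E A}

theorem center_E_eq (ht : orderOf t = 2) (hE : Cfsg.IsExtraspecial 2 E) [E.Normal]
    (e : (↥(centralizer ({t} : Set G)) ⧸ E) ≃* alternatingGroup (Fin 5)) {x : E} (hx : x ∈ center E) :
    x = 1 ∨ ((x : ↥(centralizer ({t} : Set G))) : G) = t := by
  by_contra hne
  push Not at hne
  have ht1 : t ≠ 1 := fun h => by rw [h, orderOf_one] at ht; omega
  let z : center E := ⟨⟨_, mem_E t E e⟩, Subgroup.mem_center_iff.2 fun y =>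
    Subtype.ext (Subtype.ext (mem_centralizer_singleton_iff.1 y.1.2))⟩
  have hz : z ≠ 1 := fun h => ht1 (congrArg (fun v : center E => ((v.1.1 : _) : G)) h)
  obtain ⟨a, b, hab, huniv⟩ := Nat.card_eq_two_iff.1 hE.2
  have hall : ∀ v : center E, v = a ∨ v = b := fun v => by
    have := huniv.symm ▸ Set.mem_univ v
    simpa using this
  have h1 := hall 1
  have h2 := hall z
  have h3 := hall ⟨x, hx⟩
  have e1 : (⟨x, hx⟩ : center E) ≠ 1 := fun h => hne.1 (congrArg Subtype.val h)
  have e2 : (⟨x, hx⟩ : center E) ≠ z := fun h => hne.2 (congrArg (fun v : center E => ((v.1.1 : _) : G)) h)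
  rcases h1 with h1 | h1 <;> rcases h2 with h2 | h2 <;> rcases h3 with h3 | h3 <;> simp_all

/-- The alternating complement does not centralise the extraspecial group. -/
theorem centralizer_le [IsSimpleGroup G] [E.Normal]
    (hone : ∀ x y : G, orderOf x = 2 → orderOf y = 2 → IsConj x y) (ht : orderOf t = 2)
    (hE : Cfsg.IsExtraspecial 2 E) (hE32 : Nat.card E = 32) (hEA : E.IsComplement' A)
    (eA : A ≃* alternatingGroup (Fin 5)) :
    centralizer (E : Set ↥(centralizer ({t} : Set G))) ≤ E := by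
  classical
  haveI : Fact (Nat.Prime 2) := ⟨Nat.prime_two⟩
  obtain ⟨e, he⟩ := exists_quot_equiv t E A hEA eA
  haveI : IsSimpleGroup (alternatingGroup (Fin 5)) := alternatingGroup.isSimpleGroup_five
  set W := centralizer (E : Set ↥(centralizer ({t} : Set G))) with hW
  let f : ↥(centralizer ({t} : Set G)) →* alternatingGroup (Fin 5) :=
    e.toMonoidHom.comp (QuotientGroup.mk' E)
  have hf : Function.Surjective f := e.surjective.comp (QuotientGroup.mk'_surjective E)
  have hker : ∀ c, f c = 1 ↔ c ∈ E := fun c => by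
    show e (c : _ ⧸ E) = 1 ↔ _
    rw [MulEquiv.map_eq_one_iff, QuotientGroup.eq_one_iff]
  rcases ((inferInstance : W.Normal).map f hf).eq_bot_or_eq_top with h | h
  · intro c hc
    exact (hker c).1 (Subgroup.mem_bot.1 (h ▸ mem_map_of_mem f hc))
  exfalso
  -- the complement centralises `E`
  have hsplit : ∀ c : ↥(centralizer ({t} : Set G)), ∃ x ∈ E, ∃ w ∈ W, c = x * w := fun c => by
    obtain ⟨w, hw, hwc⟩ := Subgroup.mem_map.1 (h ▸ mem_top (f c) : f c ∈ W.map f)
    exact ⟨c * w⁻¹, (hker _).1 (by rw [map_mul, map_inv, hwc, mul_inv_cancel]), w, hw, by group⟩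
  have hcomm : ∀ x y : E, x * y * x⁻¹ * y⁻¹ ∈ center E := fun x y => by
    have hm := Subgroup.commutator_mem_commutator (G := E) (mem_top x) (mem_top y)
    rw [commutatorElement_def, ← commutator_def, hE.1.2.2] at hm
    exact hm
  let κ : alternatingGroup (Fin 5) →* MulAut E :=
    (MulAut.conjNormal (H := E)).comp (A.subtype.comp eA.symm.toMonoidHom)
  have hκ : ∀ v y, ∃ x : E, (κ v) y = x * y * x⁻¹ ∧ ∀ y', (κ v) y' = x * y' * x⁻¹ := fun v y => by
    obtain ⟨x, hx, w, hw, hc⟩ := hsplit (eA.symm v : ↥(centralizer ({t} : Set G)))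
    have hk : ∀ y' : E, (κ v) y' = ⟨x, hx⟩ * y' * (⟨x, hx⟩ : E)⁻¹ := fun y' => by
      apply Subtype.ext
      show ((MulAut.conjNormal ((eA.symm v : ↥(centralizer ({t} : Set G))))) y' : ↥(centralizer ({t} : Set G))) = _
      rw [MulAut.conjNormal_apply, hc]
      have hwy : w * y'.1 = y'.1 * w := (mem_centralizer_iff.1 hw _ y'.2).symm
      calc x * w * y'.1 * (x * w)⁻¹ = x * (w * y'.1) * (x * w)⁻¹ := by group
        _ = x * (y'.1 * w) * (x * w)⁻¹ := by rw [hwy]
        _ = x * y'.1 * x⁻¹ := by group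
        _ = _ := rfl
    exact ⟨⟨x, hx⟩, hk y, hk⟩
  have hAW : ∀ a ∈ A, ∀ y ∈ E, a * y = y * a := by
    have hκ1 := altFive_hom_trivial κ fun v w => MulEquiv.ext fun y => by
      obtain ⟨x, -, hx⟩ := hκ v y
      obtain ⟨z, -, hz⟩ := hκ w y
      rw [MulAut.mul_apply, MulAut.mul_apply, hx, hz, hx, hz]
      have hc := Subgroup.mem_center_iff.1 (hcomm x z) (z * x * y * x⁻¹ * z⁻¹)
      calc x * (z * y * z⁻¹) * x⁻¹
          = (x * z * x⁻¹ * z⁻¹) * (z * x * y * x⁻¹ * z⁻¹) * (x * z * x⁻¹ * z⁻¹)⁻¹ := by group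
        _ = z * (x * y * x⁻¹) * z⁻¹ := by
          rw [← hc]; group
    intro a ha y hy
    have h1 := congrArg (fun m : MulAut E => ((m ⟨y, hy⟩ : E) : ↥(centralizer ({t} : Set G))))
      (hκ1 (eA ⟨a, ha⟩))
    simp [κ, MulAut.conjNormal_apply] at h1
    exact mul_inv_eq_iff_eq_mul.1 h1
  -- a Sylow subgroup of the centralizer
  have hCcard : Nat.card ↥(centralizer ({t} : Set G)) = 1920 := by
    rw [← hEA.card_mul, hE32, Nat.card_congr eA.toEquiv, card_altFive]
  obtain ⟨S, hES⟩ := (hE.1.1).exists_le_sylow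
  have hScard : Nat.card S = 128 := by
    rw [S.card_eq_multiplicity, hCcard, show (1920 : ℕ) = 2 ^ 7 * 15 by norm_num,
      Nat.factorization_mul (by norm_num) (by norm_num), Nat.Prime.factorization_pow (by norm_num),
      Finsupp.add_apply, Finsupp.single_eq_same, Nat.factorization_eq_zero_of_not_dvd (by norm_num)]
    norm_num
  have hdec : ∀ c ∈ (S : Subgroup ↥(centralizer ({t} : Set G))), ∃ x ∈ E, ∃ a ∈ A ⊓ (S : Subgroup ↥(centralizer ({t} : Set G))), c = x * a := fun c hc => by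
    obtain ⟨x, hx, a, ha, hxa⟩ := Subgroup.mem_sup_of_normal_left.1
      (hEA.sup_eq_top ▸ mem_top c : c ∈ E ⊔ A)
    refine ⟨x, hx, a, ⟨ha, ?_⟩, hxa.symm⟩
    rw [show a = x⁻¹ * c by rw [← hxa]; group]
    exact Subgroup.mul_mem (S.toSubgroup) (Subgroup.inv_mem (S.toSubgroup) (hES hx)) hc
  set V := A ⊓ (S : Subgroup ↥(centralizer ({t} : Set G))) with hV
  have hV4 : Nat.card V = 4 := by
    have hle : 128 ≤ 32 * Nat.card V := by
      rw [← hScard, ← hE32, ← Nat.card_prod]
      refine Nat.card_le_card_of_surjective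
        (fun p : E × V => (⟨p.1.1 * p.2.1, mul_mem (hES p.1.2) p.2.2.2⟩ : S)) ?_
      rintro ⟨c, hc⟩
      obtain ⟨x, hx, a, ha, rfl⟩ := hdec c hc
      exact ⟨(⟨x, hx⟩, ⟨a, ha⟩), rfl⟩
    obtain ⟨k, hk⟩ := IsPGroup.iff_card.1 (S.isPGroup'.to_le (inf_le_right : V ≤ S))
    have hd : Nat.card V ∣ 60 := by
      have := Subgroup.card_dvd_of_le (inf_le_left : V ≤ A)
      rwa [Nat.card_congr eA.toEquiv, card_altFive] at this
    rw [hk] at hle hd ⊢
    have hk6 : k < 6 := by
      by_contra hk6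
      have := Nat.le_of_dvd (by norm_num) hd
      have : 2 ^ 6 ≤ 2 ^ k := Nat.pow_le_pow_right (by norm_num) (by omega)
      omega
    interval_cases k
    all_goals (revert hle hd; norm_num)
  have hVab := IsPGroup.isMulCommutative_of_card_eq_prime_sq (p := 2) (G := V) (by rw [hV4]; norm_num)
  have hVc : ∀ a ∈ V, ∀ b ∈ V, a * b = b * a := fun a ha b hb =>
    congrArg Subtype.val (hVab.is_comm.comm (⟨a, ha⟩ : V) ⟨b, hb⟩)
  obtain ⟨s, hs⟩ := exists_prime_orderOf_dvd_card' (G := V) 2 (by rw [hV4]; norm_num)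
  have hs1 : (s : ↥(centralizer ({t} : Set G))) ≠ 1 := fun h1 => by
    rw [show s = 1 from Subtype.ext h1, orderOf_one] at hs; omega
  -- the derived subgroup
  have hSt : ∀ x ∈ (S : Subgroup ↥(centralizer ({t} : Set G))), ∀ y ∈ (S : Subgroup ↥(centralizer ({t} : Set G))),
      x * y = y * x ∨ ((x * y * x⁻¹ * y⁻¹ : ↥(centralizer ({t} : Set G))) : G) = t := fun x hx y hy => by
    obtain ⟨x₁, hx₁, a, ha, rfl⟩ := hdec x hx
    obtain ⟨y₁, hy₁, b, hb, rfl⟩ := hdec y hy
    have hay := hAW a ha.1 y₁ hy₁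
    have hbx := hAW b hb.1 x₁ hx₁
    have hab := hVc a ha b hb
    have hbxi := hAW b hb.1 _ (inv_mem hx₁)
    have key : x₁ * a * (y₁ * b) * (x₁ * a)⁻¹ * (y₁ * b)⁻¹ = x₁ * y₁ * x₁⁻¹ * y₁⁻¹ := by
      calc x₁ * a * (y₁ * b) * (x₁ * a)⁻¹ * (y₁ * b)⁻¹
          = x₁ * (a * y₁) * b * a⁻¹ * x₁⁻¹ * b⁻¹ * y₁⁻¹ := by group
        _ = x₁ * y₁ * (a * b) * a⁻¹ * x₁⁻¹ * b⁻¹ * y₁⁻¹ := by rw [hay]; group
        _ = x₁ * y₁ * (b * x₁⁻¹) * b⁻¹ * y₁⁻¹ := by rw [hab]; group
        _ = x₁ * y₁ * x₁⁻¹ * y₁⁻¹ := by rw [hbxi]; group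
    rcases center_E_eq ht hE e (hcomm ⟨x₁, hx₁⟩ ⟨y₁, hy₁⟩) with h1 | h1
    · left
      have h2 : x₁ * y₁ * x₁⁻¹ * y₁⁻¹ = 1 := congrArg Subtype.val h1
      rw [← key] at h2
      exact mul_inv_eq_iff_eq_mul.1 (mul_inv_eq_one.1 h2)
    · exact Or.inr (by rw [key]; exact h1)
  have hnon : ∃ x y : E, x * y ≠ y * x := by
    by_contra hc
    push Not at hc
    have : (center E) = ⊤ := eq_top_iff.2 fun x _ => Subgroup.mem_center_iff.2 fun y => hc y x
    have h2 := hE.2
    rw [this, Subgroup.card_top, hE32] at h2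
    norm_num at h2
  obtain ⟨x, y, hxy⟩ := hnon
  -- the image in G
  set S₀ := (S : Subgroup ↥(centralizer ({t} : Set G))).map (centralizer ({t} : Set G)).subtype with hS₀
  have hfix : ∀ n ∈ normalizer (S₀ : Set G), n * t * n⁻¹ = t := fun n hn => by
    have hmem : ∀ v ∈ S₀, n * v * n⁻¹ ∈ S₀ := fun v hv => (Subgroup.mem_set_normalizer_iff.1 hn v).1 hv
    obtain ⟨x', hx', hxe⟩ := hmem _ (mem_map_of_mem (centralizer ({t} : Set G)).subtype (hES x.2))
    obtain ⟨y', hy', hye⟩ := hmem _ (mem_map_of_mem (centralizer ({t} : Set G)).subtype (hES y.2))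
    have ht0 : ((x.1 * y.1 * x.1⁻¹ * y.1⁻¹ : ↥(centralizer ({t} : Set G))) : G) = t := by
      rcases hSt _ (hES x.2) _ (hES y.2) with h1 | h1
      · exact absurd (Subtype.ext h1) hxy
      · exact h1
    change (x' : G) = n * ((x.1 : ↥(centralizer ({t} : Set G))) : G) * n⁻¹ at hxe
    change (y' : G) = n * ((y.1 : ↥(centralizer ({t} : Set G))) : G) * n⁻¹ at hye
    rcases hSt x' hx' y' hy' with h1 | h1
    · exfalso
      have h2 := congrArg (fun v : ↥(centralizer ({t} : Set G)) => (v : G)) h1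
      simp only [Subgroup.coe_mul, hxe, hye] at h2
      have h3 : ((x.1 : ↥(centralizer ({t} : Set G))) : G) * (y.1 : ↥(centralizer ({t} : Set G))) = (y.1 : ↥(centralizer ({t} : Set G))) * (x.1 : ↥(centralizer ({t} : Set G))) := by
        have := congrArg (fun v => n⁻¹ * v * n) h2
        simpa [mul_assoc] using this
      exact hxy (Subtype.ext (Subtype.ext h3))
    · calc n * t * n⁻¹ = n * ((x.1 * y.1 * x.1⁻¹ * y.1⁻¹ : ↥(centralizer ({t} : Set G))) : G) * n⁻¹ := by rw [ht0]
        _ = ((x' * y' * x'⁻¹ * y'⁻¹ : ↥(centralizer ({t} : Set G))) : G) := by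
          simp only [Subgroup.coe_mul, InvMemClass.coe_inv, hxe, hye]; group
        _ = t := h1
  have hS₀p : IsPGroup 2 S₀ := S.isPGroup'.map (centralizer ({t} : Set G)).subtype
  obtain ⟨P, hP⟩ := hS₀p.exists_le_sylow
  have hPS : (P : Subgroup G) = S₀ := by
    by_contra hne
    haveI : Group.IsNilpotent (P : Subgroup G) := P.isPGroup'.isNilpotent
    have hlt : S₀.subgroupOf (P : Subgroup G) < ⊤ :=
      lt_top_iff_ne_top.2 fun h1 => hne (le_antisymm (Subgroup.subgroupOf_eq_top.1 h1) hP)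
    obtain ⟨q, hqn, hq⟩ := SetLike.exists_of_lt (normalizerCondition_of_isNilpotent _ hlt)
    have hqN : (q : G) ∈ normalizer (S₀ : Set G) := by
      rw [Subgroup.mem_set_normalizer_iff]
      intro v
      constructor
      · intro hv
        exact ((Subgroup.mem_set_normalizer_iff.1 hqn ⟨v, hP hv⟩).1 hv : _)
      · intro hv
        have hvP : v ∈ (P : Subgroup G) := by
          have := mul_mem (mul_mem (inv_mem q.2) (hP hv)) q.2
          simpa [mul_assoc] using this
        exact (Subgroup.mem_set_normalizer_iff.1 hqn ⟨v, hvP⟩).2 hv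
    have hqC : (q : G) ∈ centralizer ({t} : Set G) :=
      mem_centralizer_singleton_iff.2 (mul_inv_eq_iff_eq_mul.1 (hfix _ hqN))
    let T := ((P : Subgroup G).comap (centralizer ({t} : Set G)).subtype)
    have hTp : IsPGroup 2 T := P.isPGroup'.comap_of_injective _ Subtype.val_injective
    have hST : (S : Subgroup ↥(centralizer ({t} : Set G))) ≤ T := fun v hv => hP (mem_map_of_mem (centralizer ({t} : Set G)).subtype hv)
    have hTS := S.is_maximal' hTp hST
    have : (⟨(q : G), hqC⟩ : ↥(centralizer ({t} : Set G))) ∈ T := q.2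
    rw [hTS] at this
    exact hq ⟨_, this, rfl⟩
  -- fusion
  have hsS : ((s : ↥(centralizer ({t} : Set G))) : G) ∈ (P : Subgroup G) := hPS ▸ mem_map_of_mem (centralizer ({t} : Set G)).subtype s.2.2
  have hcent : ∀ v ∈ (P : Subgroup G), v * (s : ↥(centralizer ({t} : Set G))) = (s : ↥(centralizer ({t} : Set G))) * v ∧ v * t = t * v := fun v hv => by
    rw [hPS] at hv
    obtain ⟨c, hc, rfl⟩ := Subgroup.mem_map.1 hv
    refine ⟨?_, mem_centralizer_singleton_iff.1 c.2⟩
    obtain ⟨x₁, hx₁, a, ha, rfl⟩ := hdec c hc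
    have h1 : x₁ * a * (s : ↥(centralizer ({t} : Set G))) = (s : ↥(centralizer ({t} : Set G))) * (x₁ * a) := by
      rw [mul_assoc, hVc a ha s s.2, ← mul_assoc, ← hAW _ s.2.1 x₁ hx₁, mul_assoc]
    exact congrArg Subtype.val h1
  have hnorm : ∀ z : G, (∀ v ∈ (P : Subgroup G), v * z = z * v) → (P : Subgroup G) ≤ normalizer ({z} : Set G) := by
    intro z hz v hv
    rw [Subgroup.mem_set_normalizer_iff]
    intro w
    simp only [Set.mem_singleton_iff]
    constructor
    · rintro rfl; rw [hz v hv]; group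
    · intro hw
      have : w = v⁻¹ * (v * w * v⁻¹) * v := by group
      rw [this, hw, mul_assoc, ← hz v hv]; group
  have hs2 : orderOf ((s : ↥(centralizer ({t} : Set G))) : G) = 2 := by rw [Subgroup.orderOf_coe, Subgroup.orderOf_coe, hs]
  obtain ⟨g, hg⟩ := isConj_iff.1 (hone t _ ht hs2)
  obtain ⟨n, hn, hnt⟩ := Cfsg.Lib.Transfer.burnside_fusion_set P {t} {((s : ↥(centralizer ({t} : Set G))) : G)}
    (hnorm t fun v hv => (hcent v hv).2) (hnorm _ fun v hv => (hcent v hv).1) g
    (by rw [Set.image_singleton, hg])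
  rw [Set.image_singleton, Set.singleton_eq_singleton_iff, hfix n (hPS ▸ hn)] at hnt
  have hsE : (s : ↥(centralizer ({t} : Set G))) ∈ E := by
    have := mem_E t E e
    rwa [show (s : ↥(centralizer ({t} : Set G))) = ⟨t, mem_centralizer_singleton_iff.2 rfl⟩ from Subtype.ext hnt.symm]
  exact hs1 (Subgroup.disjoint_def.1 hEA.disjoint hsE s.2.1)

/-- There is no element of order sixteen. -/
theorem orderOf_ne_sixteen [E.Normal]
    (hone : ∀ x y : G, orderOf x = 2 → orderOf y = 2 → IsConj x y) (ht : orderOf t = 2)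
    (hE : Cfsg.IsExtraspecial 2 E) (hEA : E.IsComplement' A)
    (eA : A ≃* alternatingGroup (Fin 5)) (g : G) : orderOf g ≠ 16 := by
  intro hg
  have h2 : orderOf (g ^ 8) = 2 := by rw [orderOf_pow, hg]; norm_num
  obtain ⟨h, hh⟩ := isConj_iff.1 (hone _ _ h2 ht)
  set v := MulAut.conj h g with hv
  have hv16 : orderOf v = 16 := by rw [hv, MulEquiv.orderOf_eq, hg]
  have hvt : v ^ 8 = t := by rw [hv, ← map_pow, MulAut.conj_apply, hh]
  have hvC : v ∈ centralizer ({t} : Set G) :=
    mem_centralizer_singleton_iff.2 (by rw [← hvt, ← pow_succ', ← pow_succ])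
  obtain ⟨e, -⟩ := exists_quot_equiv t E A hEA eA
  set c : ↥(centralizer ({t} : Set G)) := ⟨v, hvC⟩ with hc
  have hc16 : c ^ 16 = 1 := Subtype.ext (by rw [SubgroupClass.coe_pow]; show v ^ 16 = 1; rw [← hv16, pow_orderOf_eq_one])
  have h1 := altFive_sixteen (e c) (by rw [← map_pow, ← QuotientGroup.mk_pow, hc16, QuotientGroup.mk_one, map_one])
  rw [← map_pow, MulEquiv.map_eq_one_iff, ← QuotientGroup.mk_pow, QuotientGroup.eq_one_iff] at h1
  have h4 := pow_four_eq_one hE ⟨c ^ 2, h1⟩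
  rw [Subtype.ext_iff, SubgroupClass.coe_pow, OneMemClass.coe_one, ← pow_mul, Subtype.ext_iff,
    SubgroupClass.coe_pow, OneMemClass.coe_one] at h4
  have h5 := orderOf_dvd_of_pow_eq_one (x := v) h4
  rw [hv16] at h5
  norm_num at h5

/-- An odd prime not dividing fifteen does not centralise an involution. -/
theorem not_commute_involution [E.Normal]
    (hone : ∀ x y : G, orderOf x = 2 → orderOf y = 2 → IsConj x y) (ht : orderOf t = 2)
    (hE32 : Nat.card E = 32) (hEA : E.IsComplement' A)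
    (eA : A ≃* alternatingGroup (Fin 5)) {x w : G} (hw : orderOf w = 2) (hxw : Commute x w)
    (hp : ¬ orderOf x ∣ 1920) : False := by
  obtain ⟨h, hh⟩ := isConj_iff.1 (hone _ _ hw ht)
  have hmem : MulAut.conj h x ∈ centralizer ({t} : Set G) := by
    refine mem_centralizer_singleton_iff.2 ?_
    have := (hxw.map (MulAut.conj h)).eq
    rwa [MulAut.conj_apply h w, hh] at this
  have hd := Subgroup.orderOf_dvd_natCard _ hmem
  rw [MulEquiv.orderOf_eq, ← hEA.card_mul, hE32, Nat.card_congr eA.toEquiv, card_altFive] at hd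
  exact hp hd

end Cfsg.Lib.J3Sylow
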